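import Groth.Prelude.Def_W4c1btstackcountsChain
import Mathlib.LinearAlgebra.Basis.VectorSpace
import Mathlib.LinearAlgebra.FiniteDimensional.Lemmas
import Mathlib.LinearAlgebra.Pi

/-!
Classification of chains of linear maps by their rank arrays.
-/

open W4c1btstackcounts Module

namespace GrothLib.ChainRep

variable {k : Type*} [Field k]

section Flag

variable {V V' W W' : Type*} [AddCommGroup V] [Module k V] [FiniteDimensional k V]
  [AddCommGroup V'] [Module k V'] [FiniteDimensional k V']
  [AddCommGroup W] [Module k W] [AddCommGroup W'] [Module k W']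

omit [FiniteDimensional k V] in
theorem exists_compl_le {X B : Submodule k V} (h : X ≤ B) :
    ∃ C : Submodule k V, C ≤ B ∧ Disjoint X C ∧ X ⊔ C = B := by
  obtain ⟨X', hX'⟩ := X.exists_isCompl
  exact ⟨X' ⊓ B, inf_le_right, hX'.disjoint.mono_right inf_le_left,
    by rw [← sup_inf_assoc_of_le X' h, hX'.sup_eq_top, top_inf_eq]⟩

omit [FiniteDimensional k V] in
theorem finrank_sup_of_disjoint [FiniteDimensional k V] {X C : Submodule k V} (h : Disjoint X C) :
    finrank k ↥(X ⊔ C) = finrank k X + finrank k C := by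
  rw [← Submodule.finrank_sup_add_finrank_inf_eq, h.eq_bot, finrank_bot, add_zero]

theorem finrank_map_add_finrank_inf_ker (f : V →ₗ[k] W) (A : Submodule k V) :
    finrank k (A.map f) + finrank k ↥(A ⊓ LinearMap.ker f) = finrank k A := by
  have h := LinearMap.finrank_range_add_finrank_ker (f.domRestrict A)
  rw [LinearMap.range_domRestrict] at h
  have e : LinearMap.ker (f.domRestrict A) = (A ⊓ LinearMap.ker f).comap A.subtype := by
    ext x; simp
  rw [e, (Submodule.comapSubtypeEquivOfLe (inf_le_left : A ⊓ LinearMap.ker f ≤ A)).finrank_eq] at h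
  exact h

/-- Two flags, with the ranks of maps on them equal, are identified compatibly with the maps. -/
theorem exists_flagMap (f : V →ₗ[k] W) (f' : V' →ₗ[k] W') (ψ : W ≃ₗ[k] W')
    (A : ℕ → Submodule k V) (A' : ℕ → Submodule k V') (hA0 : A 0 = ⊥) (hA0' : A' 0 = ⊥) (N : ℕ)
    (hmono : ∀ i < N, A i ≤ A (i + 1)) (hmono' : ∀ i < N, A' i ≤ A' (i + 1))
    (hdim : ∀ i ≤ N, finrank k (A i) = finrank k (A' i))
    (himg : ∀ i ≤ N, ((A i).map f).map ψ.toLinearMap = (A' i).map f') :
    ∀ n ≤ N, ∃ φ : V →ₗ[k] V', (∀ x ∈ A n, φ x = 0 → x = 0) ∧ (∀ i ≤ n, (A i).map φ = A' i) ∧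
      ∀ x ∈ A n, f' (φ x) = ψ (f x) := by
  intro n
  induction n with
  | zero =>
    intro _
    refine ⟨0, fun x hx _ => by simpa [hA0] using hx, fun i hi => ?_, fun x hx => ?_⟩
    · rw [Nat.le_zero.1 hi, hA0, hA0', Submodule.map_bot]
    · rw [hA0, Submodule.mem_bot] at hx
      simp [hx]
  | succ n ih =>
    intro hn
    obtain ⟨φ, hφi, hφA, hφf⟩ := ih (Nat.le_of_succ_le hn)
    let B := A (n + 1)
    let B' := A' (n + 1)
    have hAB : A n ≤ B := hmono n hn
    have hAB' : A' n ≤ B' := hmono' n hn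
    obtain ⟨C, hC, hCd, hCs⟩ := exists_compl_le
      (inf_le_inf hAB le_rfl : A n ⊓ LinearMap.ker f ≤ B ⊓ LinearMap.ker f)
    obtain ⟨C', hC', hCd', hCs'⟩ := exists_compl_le
      (inf_le_inf hAB' le_rfl : A' n ⊓ LinearMap.ker f' ≤ B' ⊓ LinearMap.ker f')
    obtain ⟨D, hD, hDd, hDs⟩ := exists_compl_le (sup_le hAB inf_le_left : A n ⊔ B ⊓ LinearMap.ker f ≤ B)
    have hker : ∀ i ≤ N, finrank k ↥(A i ⊓ LinearMap.ker f) = finrank k ↥(A' i ⊓ LinearMap.ker f') := by
      intro i hi
      have h1 := finrank_map_add_finrank_inf_ker f (A i)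
      have h2 := finrank_map_add_finrank_inf_ker f' (A' i)
      have h3 : finrank k ((A i).map f) = finrank k ((A' i).map f') := by
        rw [← himg i hi]
        exact (LinearEquiv.finrank_map_eq ψ _).symm
      have := hdim i hi
      omega
    have hCC : finrank k C = finrank k C' := by
      have h1 := finrank_sup_of_disjoint hCd
      have h2 := finrank_sup_of_disjoint hCd'
      rw [hCs] at h1; rw [hCs'] at h2
      have := hker n (Nat.le_of_succ_le hn); have := hker (n + 1) hn
      simp only [B, B'] at h1 h2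
      omega
    let e : C ≃ₗ[k] C' := LinearEquiv.ofFinrankEq C C' hCC
    obtain ⟨s, hs⟩ := (f'.submoduleMap B').exists_rightInverse_of_surjective
      (LinearMap.range_eq_top.2 (f'.submoduleMap_surjective B'))
    let g : D →ₗ[k] ↥(B'.map f') := ((ψ.toLinearMap ∘ₗ f).domRestrict D).codRestrict _ fun x => by
      rw [← himg (n + 1) hn]
      exact Submodule.mem_map_of_mem (Submodule.mem_map_of_mem (hD x.2))
    let h : D →ₗ[k] V' := B'.subtype ∘ₗ s ∘ₗ g
    have hh : ∀ x : D, f' (h x) = ψ (f x) := fun x =>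
      congrArg Subtype.val (LinearMap.congr_fun hs (g x))
    let T : (↥(A n) × C) × D →ₗ[k] V :=
      ((A n).subtype.coprod C.subtype).coprod D.subtype
    have hTinj : LinearMap.ker T = ⊥ := by
      rw [eq_bot_iff]
      rintro ⟨⟨a, c⟩, d⟩ hx
      replace hx : (a : V) + c + d = 0 := hx
      have hd : (d : V) = 0 := by
        refine (Submodule.disjoint_def.1 hDd) _ ?_ d.2
        rw [show (d : V) = -((a : V) + c) from eq_neg_of_add_eq_zero_right hx]
        exact neg_mem (add_mem (Submodule.mem_sup_left a.2) (Submodule.mem_sup_right (hC c.2)))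
      have hac : (a : V) + c = 0 := by simpa [hd] using hx
      have hc : (c : V) = 0 := by
        refine (Submodule.disjoint_def.1 hCd) _ ⟨?_, (hC c.2).2⟩ c.2
        rw [show (c : V) = -(a : V) from eq_neg_of_add_eq_zero_right hac]
        exact neg_mem a.2
      have ha : (a : V) = 0 := by simpa [hc] using hac
      simp only [Submodule.mem_bot]
      exact Prod.ext (Prod.ext (Subtype.ext ha) (Subtype.ext hc)) (Subtype.ext hd)
    obtain ⟨L, hL⟩ := T.exists_leftInverse_of_injective hTinj
    let U : (↥(A n) × C) × D →ₗ[k] V' :=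
      ((φ.domRestrict (A n)).coprod (C'.subtype ∘ₗ e.toLinearMap)).coprod h
    let Φ := U ∘ₗ L
    have hval : ∀ (a : ↥(A n)) (c : C) (d : D), Φ ((a : V) + c + d) = φ a + e c + h d := fun a c d => by
      show U (L (T ((a, c), d))) = _
      rw [show L (T ((a, c), d)) = ((a, c), d) from LinearMap.congr_fun hL _]
      rfl
    have hdec : ∀ x ∈ B, ∃ (a : ↥(A n)) (c : C) (d : D), x = (a : V) + c + d := by
      intro x hx
      rw [← hDs] at hx
      obtain ⟨y, hy, d, hd, rfl⟩ := Submodule.mem_sup.1 hx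
      obtain ⟨a, ha, z, hz, rfl⟩ := Submodule.mem_sup.1 hy
      rw [← hCs] at hz
      obtain ⟨a', ha', c, hc, rfl⟩ := Submodule.mem_sup.1 hz
      exact ⟨⟨a + a', add_mem ha ha'.1⟩, ⟨c, hc⟩, ⟨d, hd⟩, by simp [add_assoc]⟩
    have hΦA : ∀ a ∈ A n, Φ a = φ a := fun a ha => by
      simpa using hval ⟨a, ha⟩ 0 0
    have hf : ∀ x ∈ B, f' (Φ x) = ψ (f x) := by
      intro x hx
      obtain ⟨a, c, d, rfl⟩ := hdec x hx
      rw [hval, map_add, map_add, hφf a a.2, hh, map_add, map_add, map_add, map_add,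
        LinearMap.mem_ker.1 (hC' (e c).2).2, LinearMap.mem_ker.1 (hC c.2).2, map_zero]
    have hinj : ∀ x ∈ B, Φ x = 0 → x = 0 := by
      intro x hx h0
      have hfx : f x = 0 := ψ.injective (by rw [← hf x hx, h0, map_zero, map_zero])
      obtain ⟨a, c, d, rfl⟩ := hdec x hx
      have hd : (d : V) = 0 := by
        refine (Submodule.disjoint_def.1 hDd) _ ?_ d.2
        rw [show (d : V) = ((a : V) + c + d) - ((a : V) + c) by abel]
        exact sub_mem (Submodule.mem_sup_right ⟨hx, hfx⟩)
          (add_mem (Submodule.mem_sup_left a.2) (Submodule.mem_sup_right (hC c.2)))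
      rw [hval, show d = 0 from Subtype.ext hd, map_zero, add_zero] at h0
      have he : ((e c : C') : V') = 0 := by
        refine (Submodule.disjoint_def.1 hCd') _ ⟨?_, (hC' (e c).2).2⟩ (e c).2
        rw [show ((e c : C') : V') = -φ a from eq_neg_of_add_eq_zero_right h0]
        exact neg_mem (hφA n le_rfl ▸ Submodule.mem_map_of_mem a.2)
      have hc : c = 0 := e.injective (by rw [map_zero]; exact Subtype.ext he)
      rw [he, add_zero] at h0
      rw [hc, hd, hφi a a.2 h0]
      simp
    refine ⟨Φ, hinj, fun i hi => ?_, hf⟩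
    rcases Nat.lt_or_eq_of_le hi with hi' | rfl
    · have hi'' : A i ≤ A n := by
        have : ∀ m, i + m ≤ N → A i ≤ A (i + m) := by
          intro m
          induction m with
          | zero => exact fun _ => le_rfl
          | succ m ihm => exact fun hm => (ihm (by omega)).trans (hmono (i + m) (by omega))
        obtain ⟨m, rfl⟩ := Nat.exists_eq_add_of_le (Nat.le_of_lt_succ hi')
        exact this m (by omega)
      rw [← hφA i (Nat.le_of_lt_succ hi')]
      ext y
      simp only [Submodule.mem_map]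
      exact ⟨fun ⟨x, hx, hxy⟩ => ⟨x, hx, by rw [← hΦA x (hi'' hx), hxy]⟩,
        fun ⟨x, hx, hxy⟩ => ⟨x, hx, by rw [hΦA x (hi'' hx), hxy]⟩⟩
    · refine Submodule.eq_of_le_of_finrank_eq ?_ ?_
      · rintro _ ⟨x, hx, rfl⟩
        obtain ⟨a, c, d, rfl⟩ := hdec x hx
        rw [hval]
        exact add_mem (add_mem (hAB' (hφA n le_rfl ▸ Submodule.mem_map_of_mem a.2)) (hC' (e c).2).1)
          (s (g d)).2
      · have h1 := finrank_map_add_finrank_inf_ker Φ (A (n + 1))
        have h2 : A (n + 1) ⊓ LinearMap.ker Φ = ⊥ := eq_bot_iff.2 fun x hx => by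
          simpa using hinj x hx.1 hx.2
        rw [h2, finrank_bot, add_zero] at h1
        rw [h1, hdim (n + 1) hn]

end Flag

variable {d : ℕ → ℕ}

/-- The image of the `i`-th space in the `j`-th. -/
noncomputable def img (f : (i : ℕ) → Matrix (Fin (d (i + 1))) (Fin (d i)) k) (i : ℕ) :
    (j : ℕ) → Submodule k (Fin (d j) → k)
  | 0 => ⊤
  | j + 1 => if i ≤ j then (img f i j).map (Matrix.toLin' (f j)) else ⊤

variable (f : (i : ℕ) → Matrix (Fin (d (i + 1))) (Fin (d i)) k)

theorem img_succ {i j : ℕ} (h : i ≤ j) : img f i (j + 1) = (img f i j).map (Matrix.toLin' (f j)) :=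
  if_pos h

theorem img_self (i : ℕ) : img f i i = ⊤ := by
  cases i with
  | zero => rfl
  | succ i => exact if_neg (Nat.not_succ_le_self i)

theorem iterImage_eq (i n : ℕ) : iterImage f i n = img f i (i + n) := by
  induction n with
  | zero => exact (img_self f i).symm
  | succ n ih => rw [iterImage, ih]; exact (img_succ f (Nat.le_add_right i n)).symm

theorem rankArray_eq {i j : ℕ} (h : i ≤ j) : rankArray f i j = finrank k (img f i j) := by
  obtain ⟨n, rfl⟩ := Nat.exists_eq_add_of_le h
  rw [rankArray, if_pos h, Nat.add_sub_cancel_left, iterImage_eq]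

theorem img_mono {i j : ℕ} (h : i + 1 ≤ j) : img f i j ≤ img f (i + 1) j := by
  induction j with
  | zero => omega
  | succ j ih =>
    rw [img_succ f (Nat.le_of_succ_le_succ h)]
    rcases Nat.lt_or_eq_of_le h with h' | h'
    · rw [img_succ f (Nat.le_of_lt_succ h')]
      exact Submodule.map_mono (ih (Nat.le_of_lt_succ h'))
    · rw [Nat.succ.inj h', img_self f (j + 1)]; exact le_top

theorem isRankArray (r : ℕ) : IsRankArray d r (rankArray f) := by
  refine ⟨fun j _ _ => ?_, fun i j _ hij _ => ?_, fun i j _ hij _ => ?_, fun i j hi hij _ => ?_⟩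
  · rw [rankArray_eq f le_rfl, img_self, finrank_top, Module.finrank_fin_fun]
  · rw [rankArray_eq f hij.le, rankArray_eq f hij]
    exact Submodule.finrank_mono (img_mono f hij)
  · rw [rankArray_eq f hij, rankArray_eq f (hij.trans j.le_succ), img_succ f hij]
    exact Submodule.finrank_map_le _ _
  · obtain ⟨i, rfl⟩ : ∃ m, i = m + 1 := ⟨i - 1, by omega⟩
    simp only [Nat.add_sub_cancel]
    rw [rankArray_eq f hij, rankArray_eq f (hij.trans j.le_succ),
      rankArray_eq f (show i ≤ j by omega), rankArray_eq f (show i ≤ j + 1 by omega)]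
    have h1 := finrank_map_add_finrank_inf_ker (Matrix.toLin' (f j)) (img f i j)
    have h2 := finrank_map_add_finrank_inf_ker (Matrix.toLin' (f j)) (img f (i + 1) j)
    rw [← img_succ f (show i ≤ j by omega)] at h1
    rw [← img_succ f hij] at h2
    have h3 := Submodule.finrank_mono
      (inf_le_inf (img_mono f hij) (le_refl (LinearMap.ker (Matrix.toLin' (f j)))))
    simp only [Nat.succ_eq_add_one, img_succ f hij, img_succ f (show i ≤ j by omega)] at *
    omega

variable {f}

theorem rankArray_eq_of_iso {f' : (i : ℕ) → Matrix (Fin (d (i + 1))) (Fin (d i)) k}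
    (φ : (j : ℕ) → (Fin (d j) → k) ≃ₗ[k] (Fin (d j) → k))
    (h : ∀ j x, Matrix.toLin' (f' j) (φ j x) = φ (j + 1) (Matrix.toLin' (f j) x)) {i j : ℕ}
    (hij : i ≤ j) : rankArray f' i j = rankArray f i j := by
  have key : ∀ j, i ≤ j → img f' i j = (img f i j).map (φ j).toLinearMap := by
    intro j hj
    induction j, hj using Nat.le_induction with
    | base => rw [img_self, img_self, Submodule.map_top, LinearEquiv.range]
    | succ j hj ih =>
      rw [img_succ f' hj, img_succ f hj, ih, ← Submodule.map_comp, ← Submodule.map_comp]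
      congr 1
      exact LinearMap.ext (h j)
  rw [rankArray_eq f' hij, rankArray_eq f hij, key j hij]
  exact LinearEquiv.finrank_map_eq (φ j) _

theorem exists_iso {f' : (i : ℕ) → Matrix (Fin (d (i + 1))) (Fin (d i)) k} (r : ℕ)
    (h : ∀ i j, 1 ≤ i → i ≤ j → j ≤ r → rankArray f i j = rankArray f' i j) :
    ∃ φ : (j : ℕ) → (Fin (d j) → k) ≃ₗ[k] (Fin (d j) → k),
      ∀ i, 1 ≤ i → i + 1 ≤ r → ∀ x, Matrix.toLin' (f' i) (φ i x) = φ (i + 1) (Matrix.toLin' (f i) x) := by
  let A : ∀ (F : (i : ℕ) → Matrix (Fin (d (i + 1))) (Fin (d i)) k) (j : ℕ), ℕ → Submodule k (Fin (d j) → k) :=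
    fun F j i => if i = 0 then ⊥ else img F i j
  have hA : ∀ (F) j i, 1 ≤ i → A F j i = img F i j := fun F j i hi => if_neg (by omega)
  have hstep : ∀ j, 1 ≤ j → j ≤ r → ∀ {W : Type _} [AddCommGroup W] [Module k W]
      (g g' : (Fin (d j) → k) →ₗ[k] W) (ψ : W ≃ₗ[k] W),
      (∀ i, 1 ≤ i → i ≤ j → ((img f i j).map g).map ψ.toLinearMap = (img f' i j).map g') →
      ∃ φ : (Fin (d j) → k) ≃ₗ[k] (Fin (d j) → k), (∀ x, g' (φ x) = ψ (g x)) ∧
        ∀ i, 1 ≤ i → i ≤ j → (img f i j).map φ.toLinearMap = img f' i j := by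
    intro j hj1 hjr W _ _ g g' ψ hg
    obtain ⟨φ, hinj, hmap, hcomm⟩ := exists_flagMap g g' ψ (A f j) (A f' j) (if_pos rfl) (if_pos rfl) j
      (fun i hi => by
        rcases Nat.eq_zero_or_pos i with rfl | hi0
        · simp [A]
        · rw [hA f j i hi0, hA f j (i + 1) (by omega)]; exact img_mono f hi)
      (fun i hi => by
        rcases Nat.eq_zero_or_pos i with rfl | hi0
        · simp [A]
        · rw [hA f' j i hi0, hA f' j (i + 1) (by omega)]; exact img_mono f' hi)
      (fun i hi => by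
        rcases Nat.eq_zero_or_pos i with rfl | hi0
        · simp [A]
        · rw [hA f j i hi0, hA f' j i hi0, ← rankArray_eq f hi, ← rankArray_eq f' hi, h i j hi0 hi hjr])
      (fun i hi => by
        rcases Nat.eq_zero_or_pos i with rfl | hi0
        · simp [A]
        · rw [hA f j i hi0, hA f' j i hi0]; exact hg i hi0 hi) j le_rfl
    have htop : ∀ x : Fin (d j) → k, x ∈ A f j j := fun x => by rw [hA f j j hj1, img_self]; exact Submodule.mem_top
    have hφinj : Function.Injective φ := (injective_iff_map_eq_zero φ).2 fun x => hinj x (htop x)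
    refine ⟨LinearEquiv.ofInjectiveEndo φ hφinj, fun x => hcomm x (htop x), fun i hi1 hij => ?_⟩
    have h2 := hmap i hij
    rw [hA f j i hi1, hA f' j i hi1] at h2
    exact h2
  have Q : ∀ j, 1 ≤ j → j ≤ r → ∀ ψ : (Fin (d j) → k) ≃ₗ[k] (Fin (d j) → k),
      (∀ i, 1 ≤ i → i ≤ j → (img f i j).map ψ.toLinearMap = img f' i j) →
      ∃ φ : (l : ℕ) → (Fin (d l) → k) ≃ₗ[k] (Fin (d l) → k), φ j = ψ ∧
        ∀ i, 1 ≤ i → i + 1 ≤ j → ∀ x, Matrix.toLin' (f' i) (φ i x) = φ (i + 1) (Matrix.toLin' (f i) x) := by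
    intro j
    induction j with
    | zero => omega
    | succ j ih =>
      intro _ hjr ψ hψ
      rcases Nat.eq_zero_or_pos j with rfl | hj
      · exact ⟨Function.update (fun l => LinearEquiv.refl k _) 1 ψ, Function.update_self .., by omega⟩
      obtain ⟨φ₀, hφ₀, hφ₀'⟩ := hstep j hj (by omega) (Matrix.toLin' (f j)) (Matrix.toLin' (f' j)) ψ
        (fun i hi hij => by rw [← img_succ f hij, ← img_succ f' hij]; exact hψ i hi (by omega))
      obtain ⟨φ, hφj, hφ⟩ := ih hj (by omega) φ₀ hφ₀'
      refine ⟨Function.update φ (j + 1) ψ, Function.update_self .., fun i hi hij x => ?_⟩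
      rw [Function.update_of_ne (by omega : i ≠ j + 1)]
      rcases Nat.lt_or_eq_of_le hij with hij' | hij'
      · rw [Function.update_of_ne (by omega : i + 1 ≠ j + 1)]
        exact hφ i hi (by omega) x
      · obtain rfl : i = j := by omega
        rw [Function.update_self, hφj]
        exact hφ₀ x
  rcases Nat.eq_zero_or_pos r with rfl | hr
  · exact ⟨fun l => LinearEquiv.refl k _, by omega⟩
  obtain ⟨ψ, -, hψ⟩ := hstep r hr le_rfl (W := Fin (d r) → k) 0 0 (LinearEquiv.refl k _)
    (fun i _ _ => by simp)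
  obtain ⟨φ, -, hφ⟩ := Q r hr le_rfl ψ hψ
  exact ⟨φ, hφ⟩

theorem exists_of_isRankArray (r : ℕ) (a : ℕ → ℕ → ℕ) (ha : IsRankArray d r a) :
    ∃ f : (i : ℕ) → Matrix (Fin (d (i + 1))) (Fin (d i)) k,
      ∀ i j, 1 ≤ i → i ≤ j → j ≤ r → rankArray f i j = a i j := by
  classical
  obtain ⟨ha1, ha2, ha3, ha4⟩ := ha
  let b : ℕ → ℕ → ℕ := fun i j => if i = 0 then 0 else a i j
  let R : ℕ → ℕ → ℕ → Prop := fun j x y => ∃ i t, 1 ≤ i ∧ i ≤ j ∧ b (i - 1) j + t = x ∧ x < b i j ∧
    b (i - 1) (j + 1) + t = y ∧ y < b i (j + 1)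
  have hb2 : ∀ i j, i < j → j ≤ r → b i j ≤ b (i + 1) j := fun i j hij hjr => by
    rcases Nat.eq_zero_or_pos i with rfl | hi
    · simp [b]
    · simpa [b, hi.ne'] using ha2 i j hi hij hjr
  have hbmono : ∀ i i' j, i ≤ i' → i' ≤ j → j ≤ r → b i j ≤ b i' j := by
    intro i i' j hii' hi'j hjr
    induction i', hii' using Nat.le_induction with
    | base => exact le_rfl
    | succ m hm ih => exact (ih (by omega)).trans (hb2 m j (by omega) hjr)
  have huniq : ∀ j x y y', j < r → R j x y → R j x y' → y = y' := by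
    rintro j x y y' hj ⟨i, t, hi, hij, hx, hxlt, hy, -⟩ ⟨i', t', hi', hij', hx', hxlt', hy', -⟩
    have : i = i' := by
      rcases lt_trichotomy i i' with h | h | h
      · have := hbmono i (i' - 1) j (by omega) (by omega) hj.le; omega
      · exact h
      · have := hbmono i' (i - 1) j (by omega) (by omega) hj.le; omega
    subst this
    omega
  let f : (i : ℕ) → Matrix (Fin (d (i + 1))) (Fin (d i)) k := fun j =>
    Matrix.of fun y x => if R j x y then 1 else 0
  have hfe : ∀ j, j < r → ∀ x : Fin (d j), (∀ y : Fin (d (j + 1)), R j x y →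
      Matrix.toLin' (f j) (Pi.single x 1) = Pi.single y 1) ∧ ((∀ y : Fin (d (j + 1)), ¬ R j x y) →
      Matrix.toLin' (f j) (Pi.single x 1) = 0) := by
    intro j hj x
    refine ⟨fun y hy => ?_, fun hno => ?_⟩ <;> ext z <;>
      simp only [Matrix.toLin'_apply, Matrix.mulVec_single, MulOpposite.op_one, one_smul, f, Matrix.col_apply,
        Matrix.of_apply]
    · by_cases hz : z = y
      · subst hz; simp [hy]
      · rw [Pi.single_eq_of_ne hz, if_neg fun h => hz (Fin.ext (huniq j x z y hj h hy))]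
    · simp [hno z]
  let P : (j : ℕ) → ℕ → Submodule k (Fin (d j) → k) := fun j n =>
    Submodule.span k {v | ∃ x : Fin (d j), (x : ℕ) < n ∧ v = Pi.single x 1}
  have hPrank : ∀ j n, n ≤ d j → finrank k (P j n) = n := by
    intro j n hn
    have h1 : LinearIndependent k fun x : Fin n => (Pi.single (Fin.castLE hn x) (1 : k) : Fin (d j) → k) :=
      by simpa [Function.comp_def] using (Pi.basisFun k (Fin (d j))).linearIndependent.comp _ (Fin.castLE_injective hn)
    rw [show P j n = Submodule.span k (Set.range fun x : Fin n => (Pi.single (Fin.castLE hn x) (1 : k) : Fin (d j) → k)) from ?_,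
      finrank_span_eq_card h1, Fintype.card_fin]
    refine congrArg (Submodule.span k) ?_
    ext v
    exact ⟨fun ⟨x, hx, hv⟩ => ⟨⟨x, hx⟩, hv.symm⟩, fun ⟨x, hx⟩ => ⟨Fin.castLE hn x, x.2, hx.symm⟩⟩
  refine ⟨f, fun i j hi hij hjr => ?_⟩
  suffices img f i j = P j (a i j) by
    rw [rankArray_eq f hij, this, hPrank]
    have := hbmono i j j hij le_rfl hjr
    simpa [b, show i ≠ 0 by omega, show j ≠ 0 by omega, ha1 j (by omega) hjr] using this
  induction j, hij using Nat.le_induction with
  | base =>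
    rw [img_self, ha1 i hi hjr, eq_comm, eq_top_iff]
    intro v _
    rw [← (Pi.basisFun k (Fin (d i))).sum_repr v]
    refine Submodule.sum_mem _ fun x _ => Submodule.smul_mem _ _ (Submodule.subset_span ⟨x, x.2, ?_⟩)
    simp
  | succ j hij ih =>
    rw [img_succ f hij, ih (by omega), Submodule.map_span]
    have hj : j < r := by omega
    have hdj : a i j ≤ d j := by
      have := hbmono i j j hij le_rfl hj.le
      simpa [b, show i ≠ 0 by omega, show j ≠ 0 by omega, ha1 j (by omega) hj.le] using this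
    apply le_antisymm
    · rw [Submodule.span_le]
      rintro _ ⟨v, ⟨x, hx, rfl⟩, rfl⟩
      by_cases hex : ∃ y : Fin (d (j + 1)), R j x y
      · obtain ⟨y, hy⟩ := hex
        rw [(hfe j hj x).1 y hy]
        refine Submodule.subset_span ⟨y, ?_, rfl⟩
        obtain ⟨i', t, hi', hij', hxe, hxlt, hye, hylt⟩ := hy
        have hbi : b i j = a i j := if_neg (by omega)
        have hbi' : b i (j + 1) = a i (j + 1) := if_neg (by omega)
        have : i' ≤ i := by
          by_contra hc
          have := hbmono i (i' - 1) j (by omega) (by omega) hj.le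
          omega
        have := hbmono i' i (j + 1) this (by omega) hjr
        omega
      · push Not at hex
        rw [(hfe j hj x).2 hex]
        exact zero_mem _
    · rw [Submodule.span_le]
      rintro _ ⟨y, hy, rfl⟩
      have hex : ∃ i', (y : ℕ) < b i' (j + 1) := ⟨i, by simpa [b, show i ≠ 0 by omega] using hy⟩
      let i' := Nat.find hex
      have hi'y : (y : ℕ) < b i' (j + 1) := Nat.find_spec hex
      have hi'i : i' ≤ i := Nat.find_min' hex (by simpa [b, show i ≠ 0 by omega] using hy)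
      have hi'0 : 1 ≤ i' := by
        by_contra hc
        rw [show i' = 0 by omega] at hi'y
        simp [b] at hi'y
      have hlo : b (i' - 1) (j + 1) ≤ y := not_lt.1 (Nat.find_min hex (show i' - 1 < i' by omega))
      have hconc : b i' (j + 1) + b (i' - 1) j ≤ b i' j + b (i' - 1) (j + 1) := by
        rcases Nat.lt_or_ge 1 i' with h1 | h1
        · simpa [b, show i' ≠ 0 by omega, show i' - 1 ≠ 0 by omega] using ha4 i' j h1 (by omega) hj
        · rw [show i' = 1 by omega]
          simpa [b] using ha3 1 j le_rfl (by omega) hj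
      have hx : b (i' - 1) j + ((y : ℕ) - b (i' - 1) (j + 1)) < b i' j := by omega
      have hmn := hbmono i' i j hi'i hij hj.le
      have hbi : b i j = a i j := if_neg (by omega)
      refine Submodule.subset_span ⟨Pi.single ⟨_, lt_of_lt_of_le hx (by omega)⟩ 1, ⟨_, ?_, rfl⟩, ?_⟩
      · show b (i' - 1) j + ((y : ℕ) - b (i' - 1) (j + 1)) < a i j
        omega
      · exact (hfe j hj _).1 y ⟨i', (y : ℕ) - b (i' - 1) (j + 1), hi'0, by omega, rfl, hx, by omega, hi'y⟩

end GrothLib.ChainRep
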